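import Groth.Prelude.Def_Curv2
import Groth.Agent.Lib.FinCov.Trace
import Groth.Agent.Lib.FinCov.Bilinear
import Groth.Agent.Lib.CurveMult.DualDeg
import Groth.Agent.Lib.ConstDeg29.Main
import Groth.Agent.Lib.CurveRR.Places
import Mathlib.LinearAlgebra.Trace
import Mathlib.RingTheory.Artinian.Module

/-! # The trace pairing bounds the degree of a finite cover -/

set_option autoImplicit false
set_option maxHeartbeats 1000000
set_option linter.style.haveILetI false
set_option backward.isDefEq.respectTransparency false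
universe u

open CategoryTheory CategoryTheory.Limits AlgebraicGeometry Opposite MonoidalCategory
open scoped TensorProduct
open GrothLib.LocFreeHom GrothLib.LocFreeDual20

noncomputable section

namespace GrothLib.PushDeg25

/-- The trace pairing of a reduced finite algebra over a field of characteristic zero is nondegenerate. -/
theorem eq_zero_of_trace_mul_eq_zero (K B : Type*) [Field K] [CharZero K] [CommRing B] [Algebra K B]
    [Module.Finite K B] [_root_.IsReduced B] (x : B) (hx : ∀ y : B, Algebra.trace K B (x * y) = 0) : x = 0 := by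
  by_contra h
  haveI : IsArtinianRing B := IsArtinianRing.of_finite K B
  obtain ⟨n, y, hy⟩ := IsArtinian.exists_pow_succ_smul_dvd x (1 : B)
  simp only [smul_eq_mul, mul_one] at hy
  have h2 : x - x * x * y = 0 := by
    refine IsReduced.eq_zero _ ⟨n + 1, ?_⟩
    have hz : x ^ n * (1 - x * y) = 0 := by rw [mul_sub, mul_one, ← mul_assoc, ← pow_succ, hy, sub_self]
    rw [show x - x * x * y = x * (1 - x * y) by ring, mul_pow, pow_succ x, pow_succ (1 - x * y),
      show x ^ n * x * ((1 - x * y) ^ n * (1 - x * y)) = (x ^ n * (1 - x * y)) * (x * (1 - x * y) ^ n) by ring,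
      hz, zero_mul]
  let e := x * y
  have he : e * e = e := by
    show x * y * (x * y) = x * y
    linear_combination -y * h2
  have hx' : x * e = x := by
    show x * (x * y) = x
    linear_combination -h2
  have hne : e ≠ 0 := fun h0 => h (by rw [← hx', h0, mul_zero])
  let p : Submodule K B := LinearMap.range (Algebra.lmul K B e)
  have hp : LinearMap.IsProj p (Algebra.lmul K B e) := by
    refine ⟨fun z => ⟨z, rfl⟩, ?_⟩
    rintro _ ⟨z, rfl⟩
    show e * (e * z) = e * z
    rw [← mul_assoc, he]
  have h3 : (Module.finrank K p : K) = 0 := by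
    rw [← hp.trace, ← Algebra.trace_apply]
    exact hx y
  have h4 : Module.finrank K p = 0 := Nat.cast_eq_zero.1 h3
  haveI : Subsingleton p := Module.finrank_zero_iff.1 h4
  exact hne (congrArg Subtype.val (Subsingleton.elim (⟨e, e, he⟩ : p) ⟨0, p.zero_mem⟩))

/-- The trace pairing of a free algebra with reduced generic fibre is nondegenerate. -/
theorem eq_zero_of_trace_mul_eq_zero' (R S K : Type u) [CommRing R] [CommRing S] [Algebra R S] [Field K]
    [CharZero K] [Algebra R K] (hRK : Function.Injective (algebraMap R K)) [Module.Free R S] [Module.Finite R S]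
    [_root_.IsReduced (K ⊗[R] S)] (x : S) (hx : ∀ y : S, Algebra.trace R S (x * y) = 0) : x = 0 := by
  have h := eq_zero_of_trace_mul_eq_zero K (K ⊗[R] S) (1 ⊗ₜ x) (fun z => ?_)
  · exact Algebra.TensorProduct.includeRight_injective (R := R) (A := K) (B := S) hRK
      (h.trans (map_zero (Algebra.TensorProduct.includeRight (R := R) (A := K) (B := S))).symm)
  induction z using TensorProduct.induction_on with
  | zero => rw [mul_zero, map_zero]
  | add a b ha hb => rw [mul_add, map_add, ha, hb, add_zero]
  | tmul c y =>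
    have e : ((1 : K) ⊗ₜ[R] x) * (c ⊗ₜ y) = c • ((1 : K) ⊗ₜ[R] (x * y)) := by
      rw [Algebra.TensorProduct.tmul_mul_tmul, one_mul, TensorProduct.smul_tmul', smul_eq_mul, mul_one]
    have e2 : Algebra.lmul K (K ⊗[R] S) ((1 : K) ⊗ₜ[R] (x * y)) =
        LinearMap.baseChange K (Algebra.lmul R S (x * y)) := by
      refine TensorProduct.AlgebraTensorModule.ext fun a b => ?_
      show ((1 : K) ⊗ₜ[R] (x * y)) * (a ⊗ₜ b) = _
      rw [Algebra.TensorProduct.tmul_mul_tmul, one_mul, LinearMap.baseChange_tmul]
      rfl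
    rw [e, map_smul, Algebra.trace_apply, e2, LinearMap.trace_baseChange, ← Algebra.trace_apply, hx, map_zero,
      smul_zero]

variable {X : Scheme.{u}} (A : RelSpec.QCAlg X) (hA : FlatMod.IsFinLocFree A.toModule)

/-- The trace pairing. -/
def tracePairing : FinCov.Pairing A.toModule A.toModule (Coh.structureModule X) where
  f U m n := FinCov.T A hA U (show A.presheaf.obj (op U) from
    (show A.presheaf.obj (op U) from m) * (show A.presheaf.obj (op U) from n))
  add_left U m m' n := by
    refine (congrArg (FinCov.T A hA U) (add_mul _ _ _)).trans ?_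
    exact map_add ((FinCov.traceHom A hA).app U).hom _ _
  smul_left U r m n := by
    refine (congrArg (FinCov.T A hA U) (mul_assoc _ _ _)).trans ?_
    exact Scheme.Modules.Hom.app_smul (FinCov.traceHom A hA) r _
  add_right U m n n' := by
    refine (congrArg (FinCov.T A hA U) (mul_add _ _ _)).trans ?_
    exact map_add ((FinCov.traceHom A hA).app U).hom _ _
  smul_right U r m n := by
    refine (congrArg (FinCov.T A hA U) (mul_left_comm _ _ _)).trans ?_
    exact Scheme.Modules.Hom.app_smul (FinCov.traceHom A hA) r _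
  map {U V} i m n := by
    refine ((congr($((FinCov.traceHom A hA).mapPresheaf.naturality i.op) _)).symm).trans ?_
    exact congrArg (FinCov.T A hA V) (map_mul (A.presheaf.map i.op).hom _ _)

/-- Tensoring a map on the right, on sections. -/
theorem T_map_tmul {M N P : X.Modules} (s : P ⟶ N) (U : X.Opens) (m : Γ(M, U)) (p : Γ(P, U)) :
    ((LocFreeHom.T M).map s).app U (SecTwist.tmul M P U m p) = SecTwist.tmul M N U m (s.app U p) := by
  exact congr($(congrArg (fun φ => PresheafOfModules.Hom.app φ (op U))
    ((PresheafOfModules.sheafificationAdjunction (𝟙 X.ringCatSheaf.obj)).unit.naturality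
      (MonoidalCategoryStruct.whiskerLeft (C := CohB1.PMod X) (CohB1.toPMod M) s.val))) (m ⊗ₜ p)).symm

/-- Maps to the dual, evaluated through the pairing. -/
theorem pairing_zero {P : X.Modules} {s : P ⟶ A.toModule}
    (h0 : (LocFreeHom.T A.toModule).map s ≫ (tracePairing A hA).hom = 0)
    (W : X.Opens) (hW : FinCov.Good A W) (y : A.presheaf.obj (op W)) (p : Γ(P, W)) :
    FinCov.tr A W (y * (show A.presheaf.obj (op W) from s.app W p)) = 0 := by
  have h1 : ((LocFreeHom.T A.toModule).map s ≫ (tracePairing A hA).hom).app W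
      (SecTwist.tmul A.toModule P W y p) = 0 := by
    rw [h0]
    rfl
  have h2 : (tracePairing A hA).hom.app W (SecTwist.tmul A.toModule A.toModule W y (s.app W p)) = 0 := by
    exact (congrArg ((tracePairing A hA).hom.app W) (T_map_tmul (M := A.toModule) s W y p)).symm.trans h1
  have h3 : FinCov.T A hA W (y * (show A.presheaf.obj (op W) from s.app W p)) = 0 :=
    ((tracePairing A hA).hom_tmul W y (s.app W p)).symm.trans h2
  exact (FinCov.isTrace_traceHom A hA W hW.1 hW.2.1 hW.2.2 _).symm.trans h3

/-- The trace pairing gives a monomorphism into the dual when it is nondegenerate on free opens. -/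
theorem exists_mono_dual (hA : FlatMod.IsFinLocFree A.toModule)
    (hnd : ∀ W : X.Opens, FinCov.Good A W → ∀ x : A.presheaf.obj (op W),
      (∀ y, FinCov.tr A W (y * x) = 0) → x = 0) :
    ∃ φ : A.toModule ⟶ dual A.toModule, Mono φ := by
  refine ⟨curry (M := A.toModule) (P := A.toModule) (N := Coh.structureModule X) (tracePairing A hA).hom, ?_⟩
  refine Preadditive.mono_of_cancel_zero _ fun {P} s hs => ?_
  have h0 : (LocFreeHom.T A.toModule).map s ≫ (tracePairing A hA).hom = 0 := by
    have h := congrArg uncurry hs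
    rw [uncurry_comp, uncurry_curry] at h
    rw [h]
    show (LocFreeHom.T _).map 0 ≫ _ = 0
    rw [Functor.map_zero, zero_comp]
  refine Scheme.Modules.hom_ext _ _ fun U => ?_
  ext p
  choose W hle hxW hW using fun x : U => FinCov.exists_good_le A hA x.2
  refine TopCat.Sheaf.eq_of_locally_eq' (⟨A.toModule.presheaf, A.toModule.isSheaf⟩ : TopCat.Sheaf AddCommGrpCat X)
    W U (fun x => homOfLE (hle x))
    (fun y hy => TopologicalSpace.Opens.mem_iSup.2 ⟨⟨y, hy⟩, hxW ⟨y, hy⟩⟩) _ _ fun x => ?_
  have hs' : A.toModule.presheaf.map (homOfLE (hle x)).op (s.app U p) =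
      s.app (W x) (P.presheaf.map (homOfLE (hle x)).op p) :=
    (congr($(s.mapPresheaf.naturality (homOfLE (hle x)).op) p)).symm
  have hz : s.app (W x) (P.presheaf.map (homOfLE (hle x)).op p) = 0 :=
    hnd (W x) (hW x) _ fun y => pairing_zero A hA h0 (W x) (hW x) y _
  exact hs'.trans (hz.trans (map_zero _).symm)

variable (k : Type u) [Field k] {C : Scheme.{u}} [C.Over (Spec (CommRingCat.of k))]
  [IsIntegral C] [IsProper (C ↘ Spec (CommRingCat.of k))] [CurveRR.RegCurve C]

include k in
/-- A finite algebra with nondegenerate trace pairing has nonpositive degree. -/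
theorem deg_le_zero (B : RelSpec.QCAlg C) {d : ℕ} (hB : FlatMod.IsFinLocFreeOfRank d B.toModule)
    (hnd : ∀ W : C.Opens, FinCov.Good B W → ∀ x : B.presheaf.obj (op W),
      (∀ y, FinCov.tr B W (y * x) = 0) → x = 0) :
    Curv2.deg k C B.toModule d ≤ 0 := by
  haveI := Euler.isNoetherian_of_proper (X := C) k
  have hBl := FinCov.isFinLocFree_of_rank hB
  obtain ⟨φ, hφ⟩ := exists_mono_dual B hBl hnd
  haveI := hφ
  obtain ⟨hD, hdeg⟩ := CurveMult.dual_data k hB
  have h := (Euler.degree_le_of_mono k CurveRR.RegCurve.dim.le φ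
    (Euler.isCoh_of_isFinLocFree hBl) (Euler.isCoh_of_isFinLocFree (FinCov.isFinLocFree_of_rank hD))
    (by rw [Euler.grank_of_locFree hB, Euler.grank_of_locFree hD])).1
  rw [← Euler.deg_eq_degree k hB, ← Euler.deg_eq_degree k hD, hdeg] at h
  omega

include k in
/-- The direct image of a finite cover with reduced generic fibre has nonpositive degree. -/
theorem deg_push_le_zero [CharZero k] (Y : Scheme.{u}) (g : Y ⟶ C) [IsFinite g] (d : ℕ)
    (hd : FlatMod.IsFinLocFreeOfRank d ((Coh.push g).obj (Coh.structureModule Y)))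
    (hred : AlgebraicGeometry.IsReduced (g.fiber (genericPoint C))) :
    Curv2.deg k C ((Coh.push g).obj (Coh.structureModule Y)) d ≤ 0 := by
  let B := RelSpec.QCAlg.directImage g
  let e : (Scheme.Modules.pushforward g).obj (Coh.structureModule Y) ≅ B.toModule :=
    { hom := ⟨PresheafOfModules.homMk { app := fun U => AddCommGrpCat.ofHom (AddMonoidHom.id _) } fun U r m => rfl⟩
      inv := ⟨PresheafOfModules.homMk { app := fun U => AddCommGrpCat.ofHom (AddMonoidHom.id _) } fun U r m => rfl⟩ }
  have he := Euler.deg_of_iso k e d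
  refine le_of_eq_of_le he (deg_le_zero k B (OX.isFinLocFreeOfRank_of_iso e hd) fun W hW x hx => ?_)
  obtain ⟨hWa, hfree, hfin⟩ := hW
  letI i1 : Algebra Γ(C, W) (B.presheaf.obj (op W)) := FinCov.alg B W
  rcases isEmpty_or_nonempty W with hWe | hWn
  · haveI : Subsingleton Γ(Y, g ⁻¹ᵁ W) := by
      rw [show g ⁻¹ᵁ W = ⊥ from TopologicalSpace.Opens.ext (Set.eq_empty_of_forall_notMem fun y hy => hWe.false ⟨g y, hy⟩)]
      infer_instance
    exact @Subsingleton.elim Γ(Y, g ⁻¹ᵁ W) _ x 0
  have hηW : genericPoint C ∈ W :=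
    ((genericPoint_spec C).specializes trivial).mem_open W.isOpen hWn.some.2
  let η := genericPoint C
  let K := C.residueField η
  let i : Γ(C, W) →+* K := (C.evaluation W η hηW).hom
  haveI : CharZero K := by
    let φ : k →+* K := i.comp ((C.presheaf.map (homOfLE (le_top : W ≤ ⊤)).op).hom.comp
      (show k →+* Γ(C, ⊤) from Coh.toGlobal (C ↘ Spec (CommRingCat.of k))))
    exact charZero_of_injective_ringHom φ.injective
  letI : Algebra Γ(C, W) K := i.toAlgebra
  have hinj : Function.Injective i :=
    (ConstDeg29.generic_facts η rfl W hWa hηW).1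
  haveI hAf : IsAffineOpen (g ⁻¹ᵁ W) := hWa.preimage g
  haveI : AlgebraicGeometry.IsReduced (Spec (CommRingCat.of (K ⊗[Γ(C, W)] B.presheaf.obj (op W)))) := by
    have h1 : Spec.map (CommRingCat.ofHom i) ≫ hWa.fromSpec = C.fromSpecResidueField η := by
      rw [Scheme.fromSpecResidueField, ← IsAffineOpen.fromSpecStalk_eq_fromSpecStalk hWa hηW, IsAffineOpen.fromSpecStalk, ← Category.assoc, ← Spec.map_comp]
      rfl
    let m := pullback.map (Spec.map (CommRingCat.ofHom (algebraMap Γ(C, W) (B.presheaf.obj (op W)))))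
      (Spec.map (CommRingCat.ofHom (algebraMap Γ(C, W) K))) g (C.fromSpecResidueField η)
      hAf.fromSpec (𝟙 _) hWa.fromSpec
      (by
        show Spec.map (g.app W) ≫ hWa.fromSpec = hAf.fromSpec ≫ g
        rw [← IsAffineOpen.SpecMap_appLE_fromSpec g hWa hAf le_rfl, Scheme.Hom.app_eq_appLE])
      (by rw [Category.id_comp]; exact h1)
    haveI : IsOpenImmersion m := inferInstance
    haveI : AlgebraicGeometry.IsReduced (pullback g (C.fromSpecResidueField η)) := hred
    haveI := isReduced_of_isOpenImmersion m
    haveI := isReduced_of_isOpenImmersion (pullbackSpecIso Γ(C, W) (B.presheaf.obj (op W)) K).inv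
    haveI := isReduced_of_isOpenImmersion
      (Spec.map (Algebra.TensorProduct.comm Γ(C, W) (B.presheaf.obj (op W)) K).toRingEquiv.toCommRingCatIso.hom)
    infer_instance
  haveI : _root_.IsReduced (K ⊗[Γ(C, W)] B.presheaf.obj (op W)) :=
    (affine_isReduced_iff (CommRingCat.of (K ⊗[Γ(C, W)] B.presheaf.obj (op W)))).1 inferInstance
  haveI : Module.Free Γ(C, W) (B.presheaf.obj (op W)) := hfree
  haveI : Module.Finite Γ(C, W) (B.presheaf.obj (op W)) := hfin
  refine eq_zero_of_trace_mul_eq_zero' Γ(C, W) (B.presheaf.obj (op W)) K hinj x fun y => ?_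
  rw [mul_comm]
  exact hx y

end GrothLib.PushDeg25
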